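import Cfsg.Agent.H4.Row128

/-!
# Maximality in `ℒ(G, T)` from the types (helper5)

* `card_quot_dvd`: `|L/O₂(L)| ∣ |K/O₂(K)|` for `L ≤ K`;
* `eq_of_card`: `L ≤ K` in `ℒ(G, T)`, `T ≤ N(L)`, `|L/O₂(L)| = |K/O₂(K)|` imply `K = L`.
-/

set_option autoImplicit false

namespace Cfsg.Agent.H5.MaxOf

open Subgroup Cfsg Cfsg.Agent.QTUniq.Local

variable {G : Type*} [Group G]

/-- the map `L → K/O₂(K)` -/
def toQ {L K : Subgroup G} (hLK : L ≤ K) : L →* ↥K ⧸ pCore 2 ↥K := (QuotientGroup.mk' (pCore 2 ↥K)).comp (inclusion hLK)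

theorem ker_le [Finite G] {L K : Subgroup G} (hLK : L ≤ K) : (toQ hLK).ker ≤ pCore 2 ↥L := by
  have h2 : IsPGroup 2 (toQ hLK).ker := by
    have h1 : IsPGroup 2 (pCore 2 ↥K) := Cfsg.Agent.Lib.Cores.pCore_isPGroup (G := ↥K) 2
    rintro ⟨x, hx⟩
    have hx' : inclusion hLK x ∈ pCore 2 ↥K := (QuotientGroup.eq_one_iff _).1 (MonoidHom.mem_ker.1 hx)
    obtain ⟨k, hk⟩ := h1 ⟨_, hx'⟩
    refine ⟨k, Subtype.ext (Subtype.ext ?_)⟩
    have h3 := congrArg (fun y : pCore 2 ↥K => ((y : ↥K) : G)) hk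
    exact h3
  exact Cfsg.Agent.Lib.Cores.le_pCore inferInstance h2

theorem card_quot_dvd [Finite G] {L K : Subgroup G} (hLK : L ≤ K) :
    Nat.card (↥L ⧸ pCore 2 ↥L) ∣ Nat.card (↥K ⧸ pCore 2 ↥K) := by
  have h1 : Nat.card (↥L ⧸ pCore 2 ↥L) ∣ Nat.card (toQ hLK).range := by
    rw [← Subgroup.index_ker]
    exact Subgroup.index_dvd_of_le (ker_le hLK)
  exact h1.trans (card_subgroup_dvd_card _)

theorem eq_of_card [Finite G] (T : Sylow 2 G) {L K : Subgroup G} (hK : K ∈ calL (T : Subgroup G)) (hLK : L ≤ K)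
    (hTL : (T : Subgroup G) ≤ normalizer (L : Set G))
    (hc : Nat.card (↥L ⧸ pCore 2 ↥L) = Nat.card (↥K ⧸ pCore 2 ↥K)) : K = L := by
  have h1 : Nat.card (↥L ⧸ pCore 2 ↥L) ∣ Nat.card (toQ hLK).range := by
    rw [← Subgroup.index_ker]
    exact Subgroup.index_dvd_of_le (ker_le hLK)
  have hr : (toQ hLK).range = ⊤ := by
    apply Subgroup.eq_top_of_le_card
    rw [← hc]
    exact Nat.le_of_dvd Nat.card_pos h1
  have hKN : K ≤ normalizer (L : Set G) := by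
    intro x hx
    have hxr : (QuotientGroup.mk' (pCore 2 ↥K) ⟨x, hx⟩) ∈ (toQ hLK).range := by rw [hr]; trivial
    obtain ⟨y, hy⟩ := hxr
    have h2 : (inclusion hLK y)⁻¹ * ⟨x, hx⟩ ∈ pCore 2 ↥K := QuotientGroup.eq.1 hy
    have h3 : (y : G)⁻¹ * x ∈ (T : Subgroup G) := H4.Row128.coreOf_le T hK ⟨_, h2, rfl⟩
    have h4 := mul_mem (le_normalizer (H := L) y.2) (hTL h3)
    rwa [mul_inv_cancel_left] at h4
  have : (L.subgroupOf K).Normal := (normal_subgroupOf_iff_le_normalizer hLK).2 hKN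
  -- `K/L` is a 2-group
  have h2 : IsPGroup 2 (↥K ⧸ L.subgroupOf K) := by
    have hs : Function.Surjective ((QuotientGroup.mk' (L.subgroupOf K)).comp (pCore 2 ↥K).subtype) := by
      intro q
      obtain ⟨⟨x, hx⟩, rfl⟩ := QuotientGroup.mk'_surjective _ q
      have hxr : (QuotientGroup.mk' (pCore 2 ↥K) ⟨x, hx⟩) ∈ (toQ hLK).range := by rw [hr]; trivial
      obtain ⟨y, hy⟩ := hxr
      have h2 : (inclusion hLK y)⁻¹ * ⟨x, hx⟩ ∈ pCore 2 ↥K := QuotientGroup.eq.1 hy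
      refine ⟨⟨_, h2⟩, ?_⟩
      show QuotientGroup.mk' (L.subgroupOf K) ((inclusion hLK y)⁻¹ * ⟨x, hx⟩) = QuotientGroup.mk' (L.subgroupOf K) ⟨x, hx⟩
      rw [map_mul, map_inv, mul_eq_right, inv_eq_one, QuotientGroup.mk'_apply, QuotientGroup.eq_one_iff]
      exact mem_subgroupOf.2 y.2
    exact (Cfsg.Agent.Lib.Cores.pCore_isPGroup (G := ↥K) 2).of_surjective _ hs
  have hperf : ⁅K, K⁆ = K := H4.Lf.perfect hK
  by_contra hne
  have hns : Nontrivial (↥K ⧸ L.subgroupOf K) := by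
    rw [QuotientGroup.nontrivial_iff]
    intro htop
    exact hne (le_antisymm (subgroupOf_eq_top.1 htop) hLK)
  have : Fact (Nat.Prime 2) := ⟨Nat.prime_two⟩
  have hnil : Group.IsNilpotent (↥K ⧸ L.subgroupOf K) := h2.isNilpotent
  have hsol : Group.IsSolvable (↥K ⧸ L.subgroupOf K) := inferInstance
  have h3 := hsol.commutator_lt_top_of_nontrivial (↥K ⧸ L.subgroupOf K)
  apply h3.ne
  have h4 : ⁅(⊤ : Subgroup ↥K), (⊤ : Subgroup ↥K)⁆ = ⊤ := by
    apply map_injective K.subtype_injective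
    rw [map_commutator, ← MonoidHom.range_eq_map, Subgroup.range_subtype, hperf]
  rw [commutator_def, ← map_top_of_surjective _ (QuotientGroup.mk'_surjective (L.subgroupOf K)), ← map_commutator, h4]

/-- maximality in `ℒ(G, T)` from a bound on the types -/
theorem mem_calLMax [Finite G] (T : Sylow 2 G) {L : Subgroup G} (hL : L ∈ calL (T : Subgroup G))
    (hTL : (T : Subgroup G) ≤ normalizer (L : Set G))
    (h : ∀ K ∈ calL (T : Subgroup G), L ≤ K → Nat.card (↥L ⧸ pCore 2 ↥L) ∣ Nat.card (↥K ⧸ pCore 2 ↥K) →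
      Nat.card (↥L ⧸ pCore 2 ↥L) = Nat.card (↥K ⧸ pCore 2 ↥K)) : L ∈ calLMax (T : Subgroup G) :=
  ⟨hL, fun K hK hLK => eq_of_card T hK hLK hTL (h K hK hLK (card_quot_dvd hLK))⟩

end Cfsg.Agent.H5.MaxOf
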