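import Cfsg.Agent.H5.FiveCore
import Cfsg.Agent.J4Type.FusionM22
import Cfsg.Agent.J4Type.InvFix
import Cfsg.Agent.SporadicA.MathieuRecog

/-!
# `M₂₂`, `M₂₃`: no involution commutes with an element of order 5 (helper5)
-/

set_option autoImplicit false

namespace Cfsg.Agent.H5.MFive

open Subgroup Cfsg Equiv Cfsg.Agent.H4.SevenOdd

/-- fixed points of a permutation of prime order on an invariant set -/
theorem card_modEq {Ω : Type*} [Fintype Ω] [DecidableEq Ω] {p : ℕ} (hp : p.Prime) {σ : Perm Ω} (hσ : σ ^ p = 1)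
    (S : Finset Ω) (hS : ∀ a ∈ S, σ a ∈ S) : (S.filter fun a => σ a = a).card ≡ S.card [MOD p] := by
  classical
  have : Fact p.Prime := ⟨hp⟩
  have hS' : ∀ a, σ a ∈ S ↔ a ∈ S := by
    intro a
    refine ⟨fun h => ?_, hS a⟩
    have h1 : ∀ n : ℕ, (σ ^ n) (σ a) ∈ S := by
      intro n
      induction n with
      | zero => exact h
      | succ n ih =>
        rw [pow_succ', Perm.mul_apply]
        exact hS _ ih
    have h2 := h1 (p - 1)
    rw [← Perm.mul_apply, ← pow_succ, Nat.sub_add_cancel hp.one_le, hσ, Perm.one_apply] at h2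
    exact h2
  let τ : Perm {a // a ∈ S} := σ.subtypePerm hS'
  have hpow : ∀ (n : ℕ) (a : {a // a ∈ S}), (((τ ^ n) a : {a // a ∈ S}) : Ω) = (σ ^ n) a := by
    intro n
    induction n with
    | zero => intro a; rfl
    | succ n ih =>
      intro a
      rw [pow_succ, Perm.mul_apply, ih, pow_succ, Perm.mul_apply]
      rfl
  have hτ : τ ^ p ^ 1 = 1 := by
    ext a
    rw [pow_one, hpow, hσ]
    rfl
  have h1 := Equiv.Perm.card_compl_support_modEq hτ
  rw [Fintype.card_coe] at h1
  have h2 : (S.filter fun a => σ a = a).card = (Perm.support τ)ᶜ.card := by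
    symm
    apply Finset.card_bij (fun (a : {a // a ∈ S}) _ => (a : Ω))
    · intro a ha
      rw [Finset.mem_compl, Perm.notMem_support] at ha
      exact Finset.mem_filter.2 ⟨a.2, congrArg Subtype.val ha⟩
    · intro a _ b _ h
      exact Subtype.ext h
    · intro b hb
      obtain ⟨h3, h4⟩ := Finset.mem_filter.1 hb
      refine ⟨⟨b, h3⟩, ?_, rfl⟩
      rw [Finset.mem_compl, Perm.notMem_support]
      exact Subtype.ext h4
  rwa [h2]

/-- **no involution of `M₂₃` commutes with an element of order 5** -/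
theorem no_ten {t x : Perm GolayPt} (ht : t ∈ M24) (hx : x ∈ M24) (htn : t none = none)
    (htt : t * t = 1) (ht1 : t ≠ 1) (hx5 : orderOf x = 5) (hc : x * t = t * x) : False := by
  classical
  have hct : ∀ a, t (x a) = x (t a) := fun a => by
    rw [← Perm.mul_apply, ← Perm.mul_apply, hc]
  -- the fixed points of `x`
  have hx1 : x ^ 5 = 1 := by rw [← hx5]; exact pow_orderOf_eq_one x
  set X : Finset GolayPt := Finset.univ.filter fun a => x a = a with hX
  have h24 : (Finset.univ : Finset GolayPt).card = 24 := by decide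
  have hXm := card_modEq (by norm_num) hx1 Finset.univ (fun a _ => Finset.mem_univ _)
  rw [h24] at hXm
  have hX4 : X.card ≤ 4 := by
    by_contra hlt
    push Not at hlt
    obtain ⟨s, hs, hs5⟩ := Finset.exists_subset_card_eq (Nat.succ_le_of_lt hlt)
    have h1 := J4Type.InvFix.card_fix_five hs5
    have h2 : (⟨x, hx⟩ : M24) ∈ fixingSubgroup M24 (s : Set GolayPt) := by
      rw [mem_fixingSubgroup_iff]
      intro a ha
      exact (Finset.mem_filter.1 (hs ha)).2
    have h3 : orderOf (⟨x, hx⟩ : M24) ∣ 48 := by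
      rw [← h1, ← Subgroup.orderOf_mk _ h2]
      exact orderOf_dvd_natCard _
    rw [← Subgroup.orderOf_coe] at h3
    rw [show ((⟨x, hx⟩ : M24) : Perm GolayPt) = x from rfl, hx5] at h3
    norm_num at h3
  have hXc : X.card = 4 := by
    have h1 : X.card % 5 = 24 % 5 := hXm
    omega
  -- the fixed points of `t`
  set F : Finset GolayPt := Finset.univ.filter fun a => t a = a with hF
  have hF8 : F.card = 8 := J4Type.FusionM22.card_fix ht htt ht1 htn
  have h1 := card_modEq (by norm_num) hx1 F (fun a ha => by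
    have := (Finset.mem_filter.1 ha).2
    exact Finset.mem_filter.2 ⟨Finset.mem_univ _, by rw [hct, this]⟩)
  have ht2 : t ^ 2 = 1 := by rw [pow_two, htt]
  have h2 := card_modEq (by norm_num) ht2 X (fun a ha => by
    have := (Finset.mem_filter.1 ha).2
    exact Finset.mem_filter.2 ⟨Finset.mem_univ _, by rw [← hct, this]⟩)
  have e : (F.filter fun a => x a = a) = X.filter fun a => t a = a := by
    ext a
    simp only [hF, hX, Finset.mem_filter, Finset.mem_univ, true_and]
    exact and_comm
  rw [e, hF8] at h1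
  rw [hXc] at h2
  set n := (X.filter fun a => t a = a).card with hn
  have hn4 : n ≤ 4 := hXc ▸ Finset.card_filter_le _ _
  have h3 : n % 5 = 8 % 5 := h1
  have h4 : n % 2 = 4 % 2 := h2
  omega

theorem invPrime_of_le {H : Subgroup (Perm GolayPt)} (hH : H ≤ Spor.M23) {G : Type*} [Group G] [Finite G]
    (e : G ≃* H) : InvPrime G 5 := by
  intro t htt ht1 h5
  obtain ⟨x, hx⟩ : ∃ x : centralizer ({t} : Set G), orderOf x = 5 := by
    have : Fact (Nat.Prime 5) := ⟨by norm_num⟩
    exact exists_prime_orderOf_dvd_card' 5 h5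
  have hm := fun g : G => (Cfsg.Agent.SporadicA.MathieuRecog.mem_M23_iff _).1 (hH (e g).2)
  refine no_ten (hm t).1 (hm x).1 (hm t).2 ?_ ?_ ?_ ?_
  · rw [← Subgroup.coe_mul, ← map_mul, htt, map_one]; rfl
  · intro h
    apply ht1
    apply e.injective
    rw [map_one]
    exact Subtype.ext h
  · rw [Subgroup.orderOf_coe, MulEquiv.orderOf_eq, Subgroup.orderOf_coe, hx]
  · have h1 : (x : G) * t = t * x := mem_centralizer_singleton_iff.1 x.2
    rw [← Subgroup.coe_mul, ← map_mul, h1, map_mul]; rfl

theorem invPrime_m22 {G : Type*} [Group G] [Finite G] (h : Spor.IsoM22 G) : InvPrime G 5 := by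
  obtain ⟨e⟩ := h
  exact invPrime_of_le inf_le_left e

theorem invPrime_m23 {G : Type*} [Group G] [Finite G] (h : Spor.IsoM23 G) : InvPrime G 5 := by
  obtain ⟨e⟩ := h
  exact invPrime_of_le le_rfl e

end Cfsg.Agent.H5.MFive
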