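import Cfsg.Agent.H5.PerfGL4
import Cfsg.Agent.PLocal.SectionFrattini
import Cfsg.Agent.Lib.FrattiniPGroup
import Cfsg.Agent.Lib.Cores
import Cfsg.Agent.Classification.TransferSign

/-!
# The quotient `X/O₂(X)` of a perfect group of characteristic 2 with small `O₂(X)` (helper5)

* `exists_act`: `X/O₂(X)` acts faithfully on the Frattini quotient of `O₂(X)`;
* `four_dvd`: a nontrivial perfect group has order divisible by 4 (odd order theorem as a hypothesis);
* `top16`: `|O₂(X)| ≤ 16` and `16 ∤ |X/O₂(X)|`: `X/O₂(X)` is `A₅`, `L₃(2)`, `A₆` or `A₇`;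
* `top64`: `128 ∤ |X|`: `|O₂(X)| = 8` and `X/O₂(X) ≅ L₃(2)`, or `|O₂(X)| = 16` and `X/O₂(X) ≅ A₅`.
-/

set_option autoImplicit false
set_option linter.unusedSectionVars false

namespace Cfsg.Agent.H5.Top

open Subgroup Cfsg
open scoped commutatorElement

universe u

variable {X : Type u} [Group X] [Finite X]

/-- The odd order theorem (as a hypothesis). -/
def FT : Prop := ∀ (G : Type u) [Group G] [Finite G], Odd (Nat.card G) → Group.IsSolvable G

/-- `X/O₂(X)` acts faithfully on the Frattini quotient of `O₂(X)`. -/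
theorem exists_act (hc : centralizer (pCore 2 X : Set X) ≤ pCore 2 X) :
    ∃ (F : Subgroup X) (_ : F.Normal) (φ : X ⧸ pCore 2 X →* MulAut ((pCore 2 X).map (QuotientGroup.mk' F))),
      Function.Injective φ ∧ (∀ v : (pCore 2 X).map (QuotientGroup.mk' F), v * v = 1) ∧
      Nat.card ((pCore 2 X).map (QuotientGroup.mk' F)) ≤ Nat.card (pCore 2 X) := by
  have h2 : Fact (Nat.Prime 2) := ⟨Nat.prime_two⟩
  set Q : Subgroup X := pCore 2 X with hQ
  have hQn : Q.Normal := Lib.Cores.pCore_normal 2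
  have hQp : IsPGroup 2 Q := Lib.Cores.pCore_isPGroup 2
  set F : Subgroup X := (_root_.frattini Q).map Q.subtype with hF
  have hFn : F.Normal := by
    have h1 : (_root_.frattini Q).Characteristic := frattini_characteristic
    exact inferInstance
  have hFQ : F ≤ Q := map_subtype_le _
  have hker := PLocal.SectionFrattini.isPGroup_sectionKernel_frattini Q hQp hc
  set π := QuotientGroup.mk' F with hπdef
  have hπ : ∀ g : X, π g = 1 ↔ g ∈ F := fun g => by
    rw [hπdef, QuotientGroup.mk'_apply, QuotientGroup.eq_one_iff]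
  set V := Q.map π with hV
  have hVn : V.Normal := hQn.map π (QuotientGroup.mk'_surjective F)
  have hcomm : ∀ x ∈ Q, ∀ y ∈ Q, x * y * x⁻¹ * y⁻¹ ∈ F := fun x hx y hy =>
    ⟨_, Lib.FrattiniPGroup.commutator_mem_frattini hQp ⟨x, hx⟩ ⟨y, hy⟩, rfl⟩
  have hpow : ∀ x ∈ Q, x ^ 2 ∈ F := fun x hx => ⟨_, Lib.FrattiniPGroup.pow_mem_frattini hQp ⟨x, hx⟩, rfl⟩
  have hVc : ∀ v ∈ V, ∀ w ∈ V, v * w = w * v := by
    rintro _ ⟨x, hx, rfl⟩ _ ⟨y, hy, rfl⟩
    have h1 := (hπ _).mpr (hcomm x hx y hy)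
    rw [map_mul, map_mul, map_mul, map_inv, map_inv] at h1
    rw [mul_inv_eq_one, mul_inv_eq_iff_eq_mul] at h1
    exact h1
  set ψ : X →* MulAut V := (MulAut.conjNormal (H := V)).comp π with hψ
  have hiff : ∀ g : X, ψ g = 1 ↔ π g ∈ centralizer (V : Set (X ⧸ F)) := by
    intro g
    rw [hψ, MonoidHom.comp_apply, mem_centralizer_iff]
    constructor
    · intro h v hv
      have h1 := congrArg (fun f : MulAut V => ((f ⟨v, hv⟩ : V) : X ⧸ F)) h
      change ((MulAut.conjNormal (π g) ⟨v, hv⟩ : V) : X ⧸ F) = v at h1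
      rw [MulAut.conjNormal_apply] at h1
      exact (mul_inv_eq_iff_eq_mul.mp h1).symm
    · intro h
      ext v
      rw [MulAut.conjNormal_apply]
      show π g * v * (π g)⁻¹ = v
      rw [← h v v.2, mul_inv_cancel_right]
  have hkn : (sectionKernel Q F).Normal := by
    have h3 : (centralizer (V : Set (X ⧸ F))).Normal := inferInstance
    exact h3.comap π
  have hψQ : ∀ g, ψ g = 1 ↔ g ∈ Q := by
    intro g
    constructor
    · intro hg
      exact (Lib.Cores.le_pCore hkn hker) ((hiff g).mp hg)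
    · intro hg
      refine (hiff g).mpr (mem_centralizer_iff.mpr fun v hv => ?_)
      exact hVc v hv _ (mem_map_of_mem π hg)
  refine ⟨F, hFn, QuotientGroup.lift Q ψ (fun g hg => (hψQ g).2 hg), ?_, ?_, ?_⟩
  · rw [injective_iff_map_eq_one]
    intro a ha
    obtain ⟨g, rfl⟩ := QuotientGroup.mk'_surjective Q a
    rw [QuotientGroup.mk'_apply, QuotientGroup.eq_one_iff]
    exact (hψQ g).1 ha
  · rintro ⟨_, x, hx, rfl⟩
    apply Subtype.ext
    show π x * π x = 1
    rw [← map_mul, hπ, ← pow_two]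
    exact hpow x hx
  · exact Nat.card_le_card_of_surjective (π.subgroupMap Q) (π.subgroupMap_surjective Q)

/-- a nontrivial perfect group has order divisible by four -/
theorem four_dvd (hFT : FT.{u}) [Nontrivial X] (hp : ⁅(⊤ : Subgroup X), (⊤ : Subgroup X)⁆ = ⊤) :
    4 ∣ Nat.card X := by
  have h2 : 2 ∣ Nat.card X := by
    by_contra h
    exact PerfGL4.not_solvable_of_perfect hp (hFT X (Nat.odd_iff.2 (by omega)))
  by_contra h4
  have : Fact (Nat.Prime 2) := ⟨Nat.prime_two⟩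
  obtain ⟨u, hu⟩ := exists_prime_orderOf_dvd_card' 2 h2
  obtain ⟨m, hm⟩ := h2
  obtain ⟨f, hf⟩ := Classification.TransferSign.exists_hom_neg_one_of_index (⊥ : Subgroup X) m
    (Nat.odd_iff.2 (by omega)) (by rw [Subgroup.index_bot]; exact hm) u hu (by
      intro g hg
      rw [mem_bot] at hg
      have h1 : u = 1 := by
        have := congrArg (fun t => g⁻¹ * t * g) hg
        simpa [mul_assoc] using this
      rw [h1, orderOf_one] at hu; omega)
  have h1 : (⊤ : Subgroup X) ≤ f.ker := by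
    rw [← hp, Subgroup.commutator_le]
    intro a _ b _
    rw [MonoidHom.mem_ker, map_commutatorElement, commutatorElement_def, mul_comm (f a) (f b)]
    group
  have h3 : f u = 1 := h1 (mem_top u)
  rw [h3] at hf
  exact absurd hf (by decide)

theorem quot_perfect (hp : ⁅(⊤ : Subgroup X), (⊤ : Subgroup X)⁆ = ⊤) (N : Subgroup X) [N.Normal] :
    ⁅(⊤ : Subgroup (X ⧸ N)), (⊤ : Subgroup (X ⧸ N))⁆ = ⊤ := by
  have h6 := congrArg (Subgroup.map (QuotientGroup.mk' N)) hp
  rw [Subgroup.map_commutator] at h6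
  rwa [Subgroup.map_top_of_surjective _ (QuotientGroup.mk'_surjective N)] at h6

theorem quot_nontrivial [Nontrivial X] (hp : ⁅(⊤ : Subgroup X), (⊤ : Subgroup X)⁆ = ⊤) :
    Nontrivial (X ⧸ pCore 2 X) := by
  have h2 : Fact (Nat.Prime 2) := ⟨Nat.prime_two⟩
  rw [← not_subsingleton_iff_nontrivial]
  intro hs
  refine PerfGL4.not_solvable_of_perfect hp ?_
  have h1 : (⊤ : Subgroup X) ≤ pCore 2 X := by
    intro x _
    rw [← QuotientGroup.eq_one_iff]
    exact Subsingleton.elim _ _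
  have h3 : IsPGroup 2 (⊤ : Subgroup X) := (Lib.Cores.pCore_isPGroup 2).to_le h1
  have h4 : IsPGroup 2 X := by
    intro x
    obtain ⟨k, hk⟩ := h3 ⟨x, mem_top x⟩
    exact ⟨k, by simpa using congrArg Subtype.val hk⟩
  have : Group.IsNilpotent X := h4.isNilpotent
  infer_instance

/-- `O₂(X/O₂(X)) = 1` -/
theorem quot_core (N : Subgroup (X ⧸ pCore 2 X)) (hN : N.Normal) (h : IsPGroup 2 N) : N = ⊥ := by
  have h2 : Fact (Nat.Prime 2) := ⟨Nat.prime_two⟩
  have h1 := Lib.Cores.le_pCore hN h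
  rw [Lib.Cores.pCore_quotient_pCore] at h1
  exact le_bot_iff.1 h1

/-- **`|O₂(X)| ≤ 16`.** -/
theorem top16 [Nontrivial X] (hp : ⁅(⊤ : Subgroup X), (⊤ : Subgroup X)⁆ = ⊤)
    (hc : centralizer (pCore 2 X : Set X) ≤ pCore 2 X) (h1 : Nat.card (pCore 2 X) ≤ 16)
    (h2 : ¬ 16 ∣ Nat.card (X ⧸ pCore 2 X)) :
    (Nat.card (X ⧸ pCore 2 X) = 60 ∧ Nonempty (X ⧸ pCore 2 X ≃* alternatingGroup (Fin 5))) ∨
    (Nat.card (X ⧸ pCore 2 X) = 168 ∧
      Nonempty (X ⧸ pCore 2 X ≃* Matrix.ProjectiveSpecialLinearGroup (Fin 3) (ZMod 2))) ∨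
    (Nat.card (X ⧸ pCore 2 X) = 360 ∧ Nonempty (X ⧸ pCore 2 X ≃* alternatingGroup (Fin 6))) ∨
    (Nat.card (X ⧸ pCore 2 X) = 2520 ∧ Nonempty (X ⧸ pCore 2 X ≃* alternatingGroup (Fin 7))) := by
  obtain ⟨F, hF, φ, hφ, hV2, hV⟩ := exists_act hc
  have := quot_nontrivial hp
  exact PerfGL4.iso hφ hV2 (hV.trans h1) (quot_perfect hp _) h2 quot_core

theorem card_eq_mul : Nat.card X = Nat.card (X ⧸ pCore 2 X) * Nat.card (pCore 2 X) :=
  Subgroup.card_eq_card_quotient_mul_card_subgroup _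

/-- **`|X|₂ ≤ 64`.** -/
theorem top64 (hFT : FT.{u}) [Nontrivial X] (hp : ⁅(⊤ : Subgroup X), (⊤ : Subgroup X)⁆ = ⊤)
    (hc : centralizer (pCore 2 X : Set X) ≤ pCore 2 X) (h128 : ¬ 128 ∣ Nat.card X) :
    (Nat.card (pCore 2 X) = 8 ∧ Nat.card (X ⧸ pCore 2 X) = 168 ∧
      Nonempty (X ⧸ pCore 2 X ≃* Matrix.ProjectiveSpecialLinearGroup (Fin 3) (ZMod 2))) ∨
    (Nat.card (pCore 2 X) = 16 ∧ Nat.card (X ⧸ pCore 2 X) = 60 ∧
      Nonempty (X ⧸ pCore 2 X ≃* alternatingGroup (Fin 5))) := by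
  have h2 : Fact (Nat.Prime 2) := ⟨Nat.prime_two⟩
  obtain ⟨F, hF, φ, hφ, hV2, hV⟩ := exists_act hc
  have hnt := quot_nontrivial hp
  have hp' := quot_perfect hp (pCore 2 X)
  have hns := PerfGL4.not_solvable_of_perfect hp'
  have h4 : 4 ∣ Nat.card (X ⧸ pCore 2 X) := four_dvd hFT hp'
  obtain ⟨a, ha⟩ := IsPGroup.iff_card.1 (Lib.Cores.pCore_isPGroup (G := X) 2)
  have hmul := card_eq_mul (X := X)
  have ha4 : a ≤ 4 := by
    by_contra h
    apply h128
    rw [hmul, ha, show 128 = 4 * 2 ^ 5 by norm_num]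
    exact mul_dvd_mul h4 (pow_dvd_pow 2 (by omega))
  have hle16 : Nat.card (pCore 2 X) ≤ 16 := by
    rw [ha]; exact (Nat.pow_le_pow_right (by norm_num) ha4).trans (by norm_num)
  by_cases h3 : a ≤ 3
  · -- `|Y|` divides 168
    left
    have hd : Nat.card (X ⧸ pCore 2 X) ∣ 168 := GH.GL4Seven.dvd_of_le hφ hV2 (hV.trans (by
      rw [ha]; exact (Nat.pow_le_pow_right (by norm_num) h3).trans (by norm_num)))
    have h168 := GH.C2SevenTop.card_of_dvd hns hd
    have ha3 : a = 3 := by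
      by_contra hne
      have hV4 : Nat.card ((pCore 2 X).map (QuotientGroup.mk' F)) ≤ 4 := hV.trans (by
        rw [ha]; exact (Nat.pow_le_pow_right (by norm_num) (by omega : a ≤ 2)).trans (by norm_num))
      obtain ⟨k, hk⟩ := GH.C2Act.exists_pow hV2 (⊤ : Subgroup ((pCore 2 X).map (QuotientGroup.mk' F)))
      rw [Subgroup.card_top] at hk
      have hk2 : k ≤ 2 := by
        by_contra h
        have : 2 ^ 3 ≤ 2 ^ k := Nat.pow_le_pow_right (by norm_num) (by omega)
        omega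
      have h5 := GH.GL4Seven.card_mulAut hV2 hk
      have h6 : Nat.card (X ⧸ pCore 2 X) ≤ Nat.card (MulAut ((pCore 2 X).map (QuotientGroup.mk' F))) :=
        Nat.card_le_card_of_injective _ hφ
      rw [h168, h5] at h6
      interval_cases k <;> simp [Fin.prod_univ_succ] at h6
    subst ha3
    have : Nontrivial (X ⧸ pCore 2 X) := hnt
    have hs : IsSimpleGroup (X ⧸ pCore 2 X) := ⟨fun N hN => GH.C2SevenTop.simple_of_dvd hns hd N hN⟩
    exact ⟨by rw [ha]; norm_num, h168, PerfGL4.psl_of_card h168 (by simp [ZMod.card])⟩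
  · right
    have ha4' : a = 4 := by omega
    subst ha4'
    have h8 : ¬ 8 ∣ Nat.card (X ⧸ pCore 2 X) := by
      intro h
      apply h128
      rw [hmul, ha, show 128 = 8 * 2 ^ 4 by norm_num]
      exact mul_dvd_mul h dvd_rfl
    rcases top16 hp hc hle16 (fun h => h8 ((by norm_num : 8 ∣ 16).trans h)) with h | h | h | h
    · exact ⟨by rw [ha]; norm_num, h.1, h.2⟩
    all_goals (exfalso; apply h8; rw [h.1]; norm_num)

end Cfsg.Agent.H5.Top
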