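import Cfsg.Agent.H1.Tight
import Cfsg.Agent.H5.Top
import Cfsg.Agent.S0493

/-!
# Members of `ℒ(G, T)` in overgroups `M` with `M / O₂(M)` of order dividing 168 or a group of degree 5 (helper5)

* `solvable_of_lt`: groups of order less than 60 are solvable (copied from `BpAlt.Row`);
* `alt_le`: a nonsolvable group of permutations of five points contains the alternating group;
* `quasi_of_simple`, `tame_of_simple`;
* `row168`, `rowFive`: `L ∈ ℒ(G, T)`, `L, T ≤ M`, `ψ : M → X` with kernel a 2-group and image of order dividing 168,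
  resp. `ψ : M → Sym(5)`: `⟨L, T⟩` normalizes `L` and `L/O₂(L)` is `L₃(2)`, resp. `A₅`.
-/

set_option autoImplicit false

namespace Cfsg.Agent.H5.Small

open Subgroup Cfsg

/-- Groups with fewer than 60 elements are solvable (copied from `BpAlt.Row`). -/
theorem solvable_of_lt : ∀ (n : ℕ) {G : Type*} [Group G] [Finite G], Nat.card G = n → n < 60 →
    Group.IsSolvable G := by
  intro n
  induction n using Nat.strong_induction_on with
  | _ n ih =>
    intro G _ _ hG hn
    by_cases hs : IsSimpleGroup G
    · by_cases hcy : IsCyclic G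
      · have := hcy
        let _ : CommGroup G := IsCyclic.commGroup
        infer_instance
      · exfalso
        have := S0493.result hcy (by omega)
        omega
    · rcases subsingleton_or_nontrivial G with ht | ht
      · infer_instance
      · have h1 : ∃ N : Subgroup G, N.Normal ∧ N ≠ ⊥ ∧ N ≠ ⊤ := by
          by_contra hcon
          push Not at hcon
          apply hs
          exact ⟨fun N hN => by
            by_contra h
            rw [not_or] at h
            exact h.2 (hcon N hN h.1)⟩
        obtain ⟨N, hN, hb, htop⟩ := h1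
        have hN' := hN
        have hc := N.card_mul_index
        have hN1 : 1 < Nat.card ↥N := (Subgroup.one_lt_card_iff_ne_bot N).mpr hb
        have hi1 : N.index ≠ 1 := fun h => htop (Subgroup.index_eq_one.mp h)
        have hi0 : N.index ≠ 0 := Subgroup.index_ne_zero_of_finite
        have hq : Nat.card (G ⧸ N) = N.index := rfl
        have hlt1 : Nat.card ↥N < n := by
          rw [← hG, ← hc]
          have : 2 ≤ N.index := by omega
          nlinarith
        have hlt2 : Nat.card (G ⧸ N) < n := by
          rw [hq, ← hG, ← hc]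
          have : 1 ≤ N.index := by omega
          nlinarith
        have s1 := ih _ hlt1 (G := ↥N) rfl (by omega)
        have s2 := ih _ hlt2 (G := G ⧸ N) rfl (by omega)
        exact Group.isSolvable_of_ker_le_range N.subtype (QuotientGroup.mk' N)
          (by rw [QuotientGroup.ker_mk', Subgroup.range_subtype])

/-- **A nonsolvable group of permutations of five points contains the alternating group.** -/
theorem alt_le {Ω : Type*} [Fintype Ω] [DecidableEq Ω] (h5 : Fintype.card Ω = 5) {S : Subgroup (Equiv.Perm Ω)}
    (hS : ¬ Group.IsSolvable S) : alternatingGroup Ω ≤ S := by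
  apply Equiv.Perm.alternatingGroup_le_of_index_le_two
  have h1 := S.card_mul_index
  have h2 : Nat.card (Equiv.Perm Ω) = 120 := by
    rw [Nat.card_eq_fintype_card, Fintype.card_perm, h5]; rfl
  rw [h2] at h1
  have h3 : 60 ≤ Nat.card S := by
    by_contra h
    exact hS (solvable_of_lt _ rfl (by omega))
  by_contra h4
  have : 60 * 3 ≤ Nat.card S * S.index := Nat.mul_le_mul h3 (by omega)
  omega

theorem simple_of_equiv {X Y : Type*} [Group X] [Group Y] (e : X ≃* Y) [IsSimpleGroup X] : IsSimpleGroup Y := by
  exact (MulEquiv.isSimpleGroup_congr e).1 inferInstance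

/-- a nonsolvable simple group is quasisimple -/
theorem quasi_of_simple {X : Type*} [Group X] [hs : IsSimpleGroup X] (hns : ¬ Group.IsSolvable X) :
    IsQuasisimple X := by
  have h1 : Group.IsPerfect X := by
    rw [Group.isPerfect_def]
    rcases hs.eq_bot_or_eq_top_of_normal (commutator X) inferInstance with h | h
    · exfalso
      apply hns
      refine Group.isSolvable_of_comm fun a b => ?_
      have h1 := Subgroup.commutator_mem_commutator (mem_top a) (mem_top b)
      rw [← _root_.commutator_def, h, mem_bot, commutatorElement_eq_one_iff_mul_comm] at h1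
      exact h1
    · exact h
  have h2 : center X = ⊥ := by
    rcases hs.eq_bot_or_eq_top_of_normal (center X) inferInstance with h | h
    · exact h
    · exfalso
      apply hns
      refine Group.isSolvable_of_comm fun a b => ?_
      have h3 : a ∈ center X := by rw [h]; exact mem_top a
      exact (mem_center_iff.1 h3 b).symm
  refine ⟨h1, ?_⟩
  have e : X ≃* (X ⧸ center X) := (QuotientGroup.quotientBot.symm).trans (QuotientGroup.quotientMulEquivOfEq h2.symm)
  exact simple_of_equiv e

theorem pCore_eq_bot_of_simple {X : Type*} [Group X] [Finite X] [hs : IsSimpleGroup X]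
    (hns : ¬ Group.IsSolvable X) : pCore 2 X = ⊥ := by
  have h2 : Fact (Nat.Prime 2) := ⟨Nat.prime_two⟩
  rcases hs.eq_bot_or_eq_top_of_normal _ (Lib.Cores.pCore_normal 2) with h | h
  · exact h
  · exfalso
    apply hns
    have h1 : IsPGroup 2 (⊤ : Subgroup X) := h ▸ Lib.Cores.pCore_isPGroup 2
    have h3 : IsPGroup 2 X := h1.of_equiv topEquiv
    have := h3.isNilpotent
    infer_instance

variable {G : Type*} [Group G] [Finite G]

/-- a group with a homomorphism to a solvable group with kernel a 2-group is solvable -/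
theorem solvable_of_hom {M X : Type*} [Group M] [Group X] [Finite M] (ψ : M →* X) (hker : IsPGroup 2 ψ.ker)
    (h : Group.IsSolvable ψ.range) : Group.IsSolvable M := by
  have h2 : Fact (Nat.Prime 2) := ⟨Nat.prime_two⟩
  have := hker.isNilpotent
  exact Group.isSolvable_of_ker_le_range ψ.ker.subtype ψ.rangeRestrict
    (by rw [MonoidHom.ker_rangeRestrict, Subgroup.range_subtype])

omit [Finite G] in
/-- `M ≥ L` is not solvable -/
theorem not_solvable_of_le {T L M : Subgroup G} (hL : L ∈ calL T) (hLM : L ≤ M) : ¬ Group.IsSolvable M := by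
  intro h
  obtain ⟨⟨h1, h3, h4, -⟩, -, -⟩ := hL
  refine h1 (H1.Tight.eq_bot_of_perfect h3 ?_)
  have h5 : Group.IsSolvable L := Group.isSolvable_of_isSolvable_injective (inclusion_injective hLM)
  exact Group.isSolvable_of_isSolvable_injective (f := (subgroupOfEquivOfLe (le_sup_left : L ≤ L ⊔ T)).toMonoidHom)
    (subgroupOfEquivOfLe _).injective

/-- **`|M/O₂(M)|` divides 168.** -/
theorem row168 (T : Sylow 2 G) {L M : Subgroup G} (hL : L ∈ calL (T : Subgroup G)) (hTM : (T : Subgroup G) ≤ M)
    (hLM : L ≤ M) {X : Type*} [Group X] (ψ : M →* X) (hker : IsPGroup 2 ψ.ker) (hd : Nat.card ψ.range ∣ 168) :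
    L ⊔ T ≤ normalizer (L : Set G) ∧ Nat.card (L ⧸ pCore 2 L) = 168 ∧
      Nonempty ((L ⧸ pCore 2 L) ≃* Matrix.ProjectiveSpecialLinearGroup (Fin 3) (ZMod 2)) ∧
      L.subgroupOf (L ⊔ T) = perfectCore ↥(L ⊔ T) := by
  have hfin : Finite ψ.range := Finite.of_surjective _ ψ.rangeRestrict_surjective
  have hns : ¬ Group.IsSolvable ψ.range := fun h => not_solvable_of_le hL hLM (solvable_of_hom ψ hker h)
  have hc := GH.C2SevenTop.card_of_dvd hns hd
  have hnt : Nontrivial ψ.range := by
    rw [← Finite.one_lt_card_iff_nontrivial, hc]; norm_num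
  have hs : IsSimpleGroup ψ.range := ⟨fun N hN => GH.C2SevenTop.simple_of_dvd hns hd N hN⟩
  have hst : IsSimpleGroup (⊤ : Subgroup ψ.range) := simple_of_equiv topEquiv.symm
  have hnst : ¬ Group.IsSolvable (⊤ : Subgroup ψ.range) := fun h => hns (by
    exact Group.isSolvable_of_isSolvable_injective (f := (topEquiv (G := ψ.range)).symm.toMonoidHom)
      topEquiv.symm.injective)
  have hsub : Subsingleton (ψ.range ⧸ (⊤ : Subgroup ψ.range)) := QuotientGroup.subsingleton_quotient_top
  have ht : H1.Tight.Tame (⊤ : Subgroup ψ.range) := H1.Tight.Tame.of_quasisimple (quasi_of_simple hnst) inferInstance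
  obtain ⟨h1, ⟨e⟩, h3⟩ := H1.Tight.calL_of_odd T hL hTM hLM ψ.rangeRestrict ψ.rangeRestrict_surjective
    (by rw [MonoidHom.ker_rangeRestrict]; exact hker) ht (pCore_eq_bot_of_simple hnst) (by
      intro Q0 _
      by_cases hQ : Group.IsSolvable Q0
      · exact Or.inl hQ
      · right
        have h4 := GH.C2SevenTop.card_of_dvd hQ ((card_subgroup_dvd_card Q0).trans hd)
        exact (Subgroup.eq_top_of_card_eq Q0 (by rw [h4, hc])).ge)
  obtain ⟨e'⟩ := PerfGL4.psl_of_card hc (F := ZMod 2) (by simp [ZMod.card])
  refine ⟨h1, ?_, ⟨(e.trans topEquiv).trans e'⟩, h3⟩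
  rw [Nat.card_congr (e.trans topEquiv).toEquiv, hc]

/-- **`M/O₂(M)` a group of permutations of five points.** -/
theorem rowFive (T : Sylow 2 G) {L M : Subgroup G} (hL : L ∈ calL (T : Subgroup G)) (hTM : (T : Subgroup G) ≤ M)
    (hLM : L ≤ M) {Ω : Type*} [Fintype Ω] [DecidableEq Ω] (h5 : Fintype.card Ω = 5) (ψ : M →* Equiv.Perm Ω)
    (hker : IsPGroup 2 ψ.ker) :
    L ⊔ T ≤ normalizer (L : Set G) ∧ Nonempty ((L ⧸ pCore 2 L) ≃* alternatingGroup (Fin 5)) ∧
      L.subgroupOf (L ⊔ T) = perfectCore ↥(L ⊔ T) ∧ alternatingGroup Ω ≤ ψ.range := by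
  have hns : ¬ Group.IsSolvable ψ.range := fun h => not_solvable_of_le hL hLM (solvable_of_hom ψ hker h)
  have hA := alt_le h5 hns
  have e5 : alternatingGroup Ω ≃* alternatingGroup (Fin 5) :=
    Equiv.altCongrHom (Fintype.equivFinOfCardEq h5)
  have hsA : IsSimpleGroup (alternatingGroup (Fin 5)) := alternatingGroup.isSimpleGroup (by simp)
  have hsO : IsSimpleGroup (alternatingGroup Ω) := simple_of_equiv e5.symm
  have hnsA : ¬ Group.IsSolvable (alternatingGroup (Fin 5)) := by
    intro h
    apply Equiv.Perm.not_isSolvable_fin_5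
    refine Group.isSolvable_of_ker_le_range (alternatingGroup (Fin 5)).subtype (Equiv.Perm.sign (α := Fin 5)) ?_
    rw [Subgroup.range_subtype]
    exact le_rfl
  have hN : ((alternatingGroup Ω).subgroupOf ψ.range).Normal := inferInstance
  let eN : (alternatingGroup Ω).subgroupOf ψ.range ≃* alternatingGroup Ω := subgroupOfEquivOfLe hA
  have hsN : IsSimpleGroup ((alternatingGroup Ω).subgroupOf ψ.range) := simple_of_equiv eN.symm
  have hnsN : ¬ Group.IsSolvable ((alternatingGroup Ω).subgroupOf ψ.range) := fun h => hnsA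
    (Group.isSolvable_of_isSolvable_injective (f := (e5.symm.trans eN.symm).toMonoidHom) (e5.symm.trans eN.symm).injective)
  have hq : Group.IsSolvable (ψ.range ⧸ (alternatingGroup Ω).subgroupOf ψ.range) := by
    let f : ψ.range →* ℤˣ := Equiv.Perm.sign.comp ψ.range.subtype
    have hf : (alternatingGroup Ω).subgroupOf ψ.range = f.ker := rfl
    let e : (ψ.range ⧸ (alternatingGroup Ω).subgroupOf ψ.range) ≃* f.range :=
      (QuotientGroup.quotientMulEquivOfEq hf).trans (QuotientGroup.quotientKerEquivRange f)
    exact Group.isSolvable_of_isSolvable_injective (f := e.toMonoidHom) e.injective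
  have ht := H1.Tight.Tame.of_quasisimple (quasi_of_simple hnsN) hq
  obtain ⟨h1, ⟨e⟩, h3⟩ := H1.Tight.calL_of_odd T hL hTM hLM ψ.rangeRestrict ψ.rangeRestrict_surjective
    (by rw [MonoidHom.ker_rangeRestrict]; exact hker) ht (pCore_eq_bot_of_simple hnsN) (by
      intro Q0 _
      by_cases hQ : Group.IsSolvable Q0
      · exact Or.inl hQ
      · right
        have hQ' : ¬ Group.IsSolvable (Q0.map ψ.range.subtype) := fun h => hQ
          (Group.isSolvable_of_isSolvable_injective
            (f := (Q0.equivMapOfInjective _ ψ.range.subtype_injective).toMonoidHom)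
            (Q0.equivMapOfInjective _ ψ.range.subtype_injective).injective)
        have h4 := alt_le h5 hQ'
        intro x hx
        obtain ⟨y, hy, hyx⟩ := h4 (mem_subgroupOf.1 hx)
        rwa [← Subtype.ext hyx])
  exact ⟨h1, ⟨(e.trans eN).trans e5⟩, h3, hA⟩

end Cfsg.Agent.H5.Small
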