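import Cfsg.Agent.H5.FiveMod

/-!
# `O₂(L)` for `L ∈ ℒ(G, T)` of order divisible by 5, `|G|₂ ≤ 2⁷` (helper5)

* `cent_le`: `C_G(E) ≤ E` if `T ≤ N(E)` and `C_T(E) ≤ E` (even characteristic);
* `five_type`: if no involution commutes with an element of order 5 then `O₂(L)` has order 16 and `C_G(O₂(L)) ≤ O₂(L)`.
-/

set_option autoImplicit false

namespace Cfsg.Agent.H5.FiveCore

open Subgroup Cfsg Cfsg.Agent.QTUniq.Local Cfsg.Agent.H4.SevenOdd

variable {G : Type*} [Group G]

/-- a group without nontrivial elements of odd order is a 2-group -/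
theorem isPGroup_two [Finite G] {C : Subgroup G} (h : ∀ c ∈ C, Odd (orderOf c) → c = 1) : IsPGroup 2 C := by
  rintro ⟨x, hx⟩
  obtain ⟨k, m, hm, hkm⟩ := Nat.exists_eq_two_pow_mul_odd (orderOf_pos x).ne'
  refine ⟨k, Subtype.ext ?_⟩
  show x ^ 2 ^ k = 1
  apply h _ (pow_mem hx _)
  rw [orderOf_pow, hkm, Nat.gcd_eq_right (Dvd.intro _ rfl), Nat.mul_div_cancel_left _ (by positivity)]
  exact hm

/-- an element of odd order of a 2-group is trivial -/
theorem eq_one_of_odd {R : Subgroup G} (hR : IsPGroup 2 R) {c : G} (hc : c ∈ R) (ho : Odd (orderOf c)) : c = 1 := by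
  obtain ⟨k, hk⟩ := hR ⟨c, hc⟩
  have h1 : c ^ 2 ^ k = 1 := congrArg Subtype.val hk
  have h2 := orderOf_dvd_of_pow_eq_one h1
  obtain ⟨j, -, hj⟩ := (Nat.dvd_prime_pow Nat.prime_two).1 h2
  rw [← orderOf_eq_one_iff, hj]
  rw [hj] at ho
  rcases Nat.eq_zero_or_pos j with rfl | hj0
  · rfl
  · exfalso
    exact (Nat.not_even_iff_odd.2 ho) (Nat.even_pow.2 ⟨even_two, by omega⟩)

theorem cent_le [Finite G] (hE : IsOfEvenCharacteristic G) (T : Sylow 2 G) {E : Subgroup G} (hE2 : IsPGroup 2 E)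
    (hne : E ≠ ⊥) (hTE : (T : Subgroup G) ≤ normalizer (E : Set G))
    (hS : ∀ x ∈ (T : Subgroup G), (∀ e ∈ E, x * e = e * x) → x ∈ E) : centralizer (E : Set G) ≤ E := by
  have h2p : Fact (Nat.Prime 2) := ⟨Nat.prime_two⟩
  set N : Subgroup G := normalizer (E : Set G) with hN
  have hcore : pCore 2 ↥N ≠ ⊥ := pCore_ne_bot_of_twoLocal ⟨E, hE2, hne, rfl⟩
  have hch := charTwo_of_over hE T hTE hcore
  set R : Subgroup G := (pCore 2 ↥N).map N.subtype with hR
  have hR2 : IsPGroup 2 R := map_pCore_isPGroup 2 N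
  have hRT : R ≤ (T : Subgroup G) := map_pCore_le_sylow T hTE
  have hRN : R ≤ N := map_subtype_le _
  have hNR : N ≤ normalizer (R : Set G) := le_normalizer_map_pCore 2 N
  have hCN : centralizer (E : Set G) ≤ N := centralizer_le_normalizer _
  have hNC : N ≤ normalizer ((centralizer (E : Set G) : Subgroup G) : Set G) :=
    FiveMod.normalizer_le_normalizer_centralizer E
  have hC2 : IsPGroup 2 (centralizer (E : Set G) : Subgroup G) := by
    apply isPGroup_two
    intro c hc ho
    apply eq_one_of_odd hR2 ?_ ho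
    -- `c` centralises `R`
    have key : ∀ r ∈ R, c * r = r * c := by
      intro r hr
      set y := c * r * c⁻¹ * r⁻¹ with hy
      have hyR : y ∈ R := mul_mem ((mem_normalizer_iff.1 (hNR (hCN hc)) r).1 hr) (inv_mem hr)
      have hyC : y ∈ centralizer (E : Set G) := by
        have h1 : r * c⁻¹ * r⁻¹ ∈ centralizer (E : Set G) :=
          (mem_normalizer_iff.1 (hNC (hRN hr)) c⁻¹).1 (inv_mem hc)
        have e : y = c * (r * c⁻¹ * r⁻¹) := by rw [hy]; group
        rw [e]
        exact mul_mem hc h1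
      have hyE : y ∈ E := hS y (hRT hyR) (fun e he => ((mem_centralizer_iff.1 hyC) e he).symm)
      have hcy : Commute c y := ((mem_centralizer_iff.1 hc) y hyE).symm
      have h1 : c * r * c⁻¹ = y * r := by rw [hy]; group
      have hpow : ∀ n : ℕ, c ^ n * r * (c ^ n)⁻¹ = y ^ n * r := by
        intro n
        induction n with
        | zero => simp
        | succ n ih =>
          calc c ^ (n + 1) * r * (c ^ (n + 1))⁻¹ = c * (c ^ n * r * (c ^ n)⁻¹) * c⁻¹ := by
                rw [pow_succ']; group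
            _ = c * (y ^ n * r) * c⁻¹ := by rw [ih]
            _ = (c * y ^ n * c⁻¹) * (c * r * c⁻¹) := by group
            _ = y ^ n * (y * r) := by
                have e1 : c * y ^ n * c⁻¹ = y ^ n := by rw [(hcy.pow_right n).eq, mul_inv_cancel_right]
                rw [e1, h1]
            _ = y ^ (n + 1) * r := by rw [pow_succ, mul_assoc (y ^ n) y r]
      have h2 := hpow (orderOf c)
      rw [pow_orderOf_eq_one, one_mul, inv_one, mul_one] at h2
      have h3 : y ^ orderOf c = 1 := mul_eq_right.1 h2.symm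
      have h4 : y = 1 := by
        apply eq_one_of_odd hR2 hyR
        exact Odd.of_dvd_nat ho (orderOf_dvd_of_pow_eq_one h3)
      rw [h4, one_mul] at h1
      rw [mul_inv_eq_iff_eq_mul.1 h1]
    have h1 : (⟨c, hCN hc⟩ : ↥N) ∈ centralizer (pCore 2 ↥N : Set ↥N) := by
      rw [mem_centralizer_iff]
      intro r hr
      exact Subtype.ext (key r ⟨r, hr, rfl⟩).symm
    exact ⟨_, hch h1, rfl⟩
  have h1 := le_map_pCore hCN hC2 hNC
  intro x hx
  exact hS x (hRT (h1 hx)) (fun e he => ((mem_centralizer_iff.1 hx) e he).symm)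

theorem pow_mod_five' : ∀ n ≤ 7, 2 ^ n ≡ 1 [MOD 5] → n = 0 ∨ n = 4 := by decide

/-- 2-subgroups normalised by an element of order 5 -/
theorem card_of_norm [Finite G] (h256 : ¬ 256 ∣ Nat.card G) (hI : InvPrime G 5) {x : G} (hx : orderOf x = 5)
    {S : Subgroup G} (hS : IsPGroup 2 S) (hn : x ∈ normalizer (S : Set G)) : Nat.card S = 1 ∨ Nat.card S = 16 := by
  have h2p : Fact (Nat.Prime 2) := ⟨Nat.prime_two⟩
  have h1 := modEq_one (by norm_num) hx hn (fun s hs hc => hI.fix hx hS hs hc)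
  obtain ⟨n, hn⟩ := IsPGroup.iff_card.1 hS
  have hn7 : n ≤ 7 := by
    by_contra h
    apply h256
    refine Dvd.dvd.trans ?_ (card_subgroup_dvd_card S)
    rw [hn, show 256 = 2 ^ 8 by norm_num]
    exact pow_dvd_pow 2 (by omega)
  rw [hn] at h1
  rcases pow_mod_five' n hn7 h1 with rfl | rfl
  · left; rw [hn, pow_zero]
  · right; rw [hn]; norm_num

/-- **`O₂(L)`** -/
theorem five_type [Finite G] (hE : IsOfEvenCharacteristic G) (h256 : ¬ 256 ∣ Nat.card G) (hI : InvPrime G 5)
    (T : Sylow 2 G) {L : Subgroup G} (hL : L ∈ calL (T : Subgroup G)) (h5 : 5 ∣ Nat.card L) :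
    Nat.card (pCore 2 ↥L) = 16 ∧
      centralizer (((pCore 2 ↥L).map L.subtype : Subgroup G) : Set G) ≤ (pCore 2 ↥L).map L.subtype := by
  have h2p : Fact (Nat.Prime 2) := ⟨Nat.prime_two⟩
  obtain ⟨x, hx5⟩ : ∃ x : ↥L, orderOf x = 5 := by
    have : Fact (Nat.Prime 5) := ⟨by norm_num⟩
    exact exists_prime_orderOf_dvd_card' 5 h5
  have hx : orderOf (x : G) = 5 := by rw [← hx5]; exact orderOf_coe x
  set H : Subgroup G := L ⊔ (T : Subgroup G) with hH
  have hLH : L ≤ H := le_sup_left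
  have hTH : (T : Subgroup G) ≤ H := le_sup_right
  set R : Subgroup G := (pCore 2 ↥H).map H.subtype with hR
  set D : Subgroup G := (pCore 2 ↥L).map L.subtype with hD
  have hDR : D ≤ R := H4.Lf.core_le hLH (H4.Lf.subnormal hL)
  have hHR : H ≤ normalizer (R : Set G) := le_normalizer_map_pCore 2 H
  have hR2 : IsPGroup 2 R := map_pCore_isPGroup 2 H
  have hcR := card_of_norm h256 hI hx hR2 (hHR (hLH x.2))
  have hcD := card_of_norm h256 hI hx (map_pCore_isPGroup 2 L) (le_normalizer_map_pCore 2 L x.2)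
  have hcDeq : Nat.card D = Nat.card (pCore 2 ↥L) :=
    (Nat.card_congr ((pCore 2 ↥L).equivMapOfInjective L.subtype L.subtype_injective).toEquiv).symm
  have hDne : Nat.card (pCore 2 ↥L) ≠ 1 := by
    intro h
    have h1 : pCore 2 ↥L = ⊥ := card_eq_one.1 h
    have h2 := Row64.centralizer_le hE T hL
    rw [h1] at h2
    have h3 : x ∈ centralizer ((⊥ : Subgroup ↥L) : Set ↥L) := by
      rw [mem_centralizer_iff]
      intro y hy
      rw [SetLike.mem_coe, mem_bot] at hy
      rw [hy, one_mul, mul_one]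
    have h4 := h2 h3
    rw [mem_bot] at h4
    rw [h4, orderOf_one] at hx5
    norm_num at hx5
  have h16 : Nat.card (pCore 2 ↥L) = 16 := by
    rw [hcDeq] at hcD
    exact hcD.resolve_left hDne
  have hDR' : D = R := by
    apply eq_of_le_of_card_ge hDR
    rw [hcDeq, h16]
    rcases hcR with h | h
    · rw [h]; norm_num
    · rw [h]
  refine ⟨h16, ?_⟩
  have hch := charTwo_of_over hE T hTH (H4.Lf.oTwo_ne hL)
  apply cent_le hE T (map_pCore_isPGroup 2 L)
  · intro h
    apply hDne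
    rw [← hcDeq, hD, h, card_bot]
  · rw [← hD, hDR']
    exact hTH.trans hHR
  · intro t ht hc
    rw [← hD, hDR'] at hc ⊢
    have h1 : (⟨t, hTH ht⟩ : ↥H) ∈ centralizer (pCore 2 ↥H : Set ↥H) := by
      rw [mem_centralizer_iff]
      intro r hr
      exact Subtype.ext (hc r ⟨r, hr, rfl⟩).symm
    exact ⟨_, hch h1, rfl⟩

end Cfsg.Agent.H5.FiveCore
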