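import Cfsg.Agent.H5.MaxOf
import Cfsg.Agent.H4.SevenOdd
import Cfsg.Agent.Lib.NormalAbelian

/-!
# `L = 2⁴:A₅` in exactly one maximal 2-local subgroup (helper5)

`unique`: `|L| = 960`, `|O₂(L)| = 16`, `C_G(O₂(L)) ≤ O₂(L)`, `256 ∤ |G|`, `M` a maximal 2-local subgroup with
`L ≤ M ≤ N(L)`: `M` is the unique maximal 2-local subgroup containing `L`.
-/

set_option autoImplicit false

namespace Cfsg.Agent.H5.FiveMod

open Subgroup Cfsg Cfsg.Agent.QTUniq.Local

variable {G : Type*} [Group G]

/-- fixed points of an element of prime order -/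
theorem card_modEq [Finite G] {p : ℕ} (hp : p.Prime) {x : G} (hx : orderOf x = p) {S : Subgroup G}
    (hn : x ∈ normalizer (S : Set G)) : Nat.card ↥S ≡ Nat.card (S ⊓ centralizer {x} : Subgroup G) [MOD p] := by
  have hpf : Fact p.Prime := ⟨hp⟩
  have hZ : zpowers x ≤ normalizer (S : Set G) := zpowers_le.2 hn
  let φ : ↥(zpowers x) →* MulAut ↥S := (S.normalizerMonoidHom).comp (inclusion hZ)
  let _ : MulAction ↥(zpowers x) ↥S := MulAction.compHom ↥S φ
  have hP : IsPGroup p ↥(zpowers x) := by
    apply IsPGroup.of_card (n := 1)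
    rw [Nat.card_zpowers, hx, pow_one]
  have h1 := hP.card_modEq_card_fixedPoints ↥S
  have h2 : Nat.card ↥(MulAction.fixedPoints ↥(zpowers x) ↥S) = Nat.card (S ⊓ centralizer {x} : Subgroup G) := by
    apply Nat.card_congr
    refine Equiv.ofBijective (fun s => ⟨(s.1 : G), s.1.2, ?_⟩) ⟨?_, ?_⟩
    · have h3 := s.2 ⟨x, mem_zpowers x⟩
      have h4 : x * (s.1 : G) * x⁻¹ = s.1 := congrArg Subtype.val h3
      refine mem_centralizer_singleton_iff.2 ?_
      calc (s.1 : G) * x = x * (s.1 : G) * x⁻¹ * x := by rw [h4]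
        _ = x * s.1 := by group
    · intro a b h
      exact Subtype.ext (Subtype.ext (Subtype.mk.inj h))
    · rintro ⟨s, hs, hc⟩
      refine ⟨⟨⟨s, hs⟩, ?_⟩, rfl⟩
      rintro ⟨_, n, rfl⟩
      apply Subtype.ext
      show x ^ n * s * (x ^ n)⁻¹ = s
      have h3 : Commute x s := (mem_centralizer_singleton_iff.1 hc).symm
      rw [(h3.zpow_left n).eq, mul_inv_cancel_right]
  rwa [h2] at h1

theorem pow_mod_five : ∀ n ≤ 4, 2 ^ n ≡ 1 [MOD 5] → n = 0 ∨ n = 4 := by decide

/-- a subgroup of the group `E` of order 16 normalised by an element `x` of order 5 not centralising `E` -/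
theorem irred [Finite G] {E D : Subgroup G} (hE : Nat.card E = 16) {x : G} (hx : orderOf x = 5)
    (hxE : x ∈ normalizer (E : Set G)) (hxC : x ∉ centralizer (E : Set G)) (hDE : D ≤ E)
    (hxD : x ∈ normalizer (D : Set G)) : D = ⊥ ∨ D = E := by
  have pw : ∀ A : Subgroup G, A ≤ E → ∃ n ≤ 4, Nat.card A = 2 ^ n := by
    intro A hA
    have h1 := card_dvd_of_le hA
    rw [hE, show 16 = 2 ^ 4 by norm_num] at h1
    exact (Nat.dvd_prime_pow Nat.prime_two).1 h1
  have hf : E ⊓ centralizer {x} = ⊥ := by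
    have h1 := card_modEq (by norm_num) hx hxE
    obtain ⟨n, hn, h2⟩ := pw _ (inf_le_left : E ⊓ centralizer {x} ≤ E)
    rw [hE, h2] at h1
    rcases pow_mod_five n hn (h1.symm.trans (by decide)) with rfl | rfl
    · exact (card_eq_one.1 (by rw [h2, pow_zero]))
    · exfalso
      apply hxC
      have h3 : E ⊓ centralizer {x} = E := by
        apply eq_of_le_of_card_ge inf_le_left
        rw [h2, hE]; norm_num
      rw [mem_centralizer_iff]
      intro e he
      rw [← h3] at he
      exact mem_centralizer_singleton_iff.1 he.2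
  have hD := card_modEq (by norm_num) hx hxD
  have h3 : D ⊓ centralizer {x} = ⊥ := by
    rw [eq_bot_iff, ← hf]
    exact inf_le_inf_right _ hDE
  rw [h3, card_bot] at hD
  obtain ⟨n, hn, h2⟩ := pw _ hDE
  rw [h2] at hD
  rcases pow_mod_five n hn hD with rfl | rfl
  · exact Or.inl (card_eq_one.1 (by rw [h2, pow_zero]))
  · exact Or.inr (eq_of_le_of_card_ge hDE (by rw [h2, hE]; norm_num))

theorem normalizer_le_normalizer_centralizer (Q : Subgroup G) :
    normalizer (Q : Set G) ≤ normalizer ((centralizer (Q : Set G) : Subgroup G) : Set G) := by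
  have h0 : ∀ g ∈ normalizer (Q : Set G), ∀ c ∈ centralizer (Q : Set G), g * c * g⁻¹ ∈ centralizer (Q : Set G) := by
    intro g hg c hc
    rw [mem_centralizer_iff] at hc ⊢
    intro q hq
    have h1 : g⁻¹ * q * g ∈ Q := by
      have := (mem_normalizer_iff.1 (inv_mem hg) q).1 hq
      rwa [inv_inv] at this
    calc q * (g * c * g⁻¹) = g * ((g⁻¹ * q * g) * c) * g⁻¹ := by group
      _ = g * (c * (g⁻¹ * q * g)) * g⁻¹ := by rw [hc _ h1]
      _ = g * c * g⁻¹ * q := by group
  intro g hg
  rw [mem_normalizer_iff]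
  intro c
  refine ⟨h0 g hg c, fun h => ?_⟩
  have h1 := h0 g⁻¹ (inv_mem hg) _ h
  have e1 : g⁻¹ * (g * c * g⁻¹) * g⁻¹⁻¹ = c := by group
  rwa [e1] at h1

/-- product formula -/
theorem card_sup_mul [Finite G] {Q L : Subgroup G} (h : L ≤ normalizer (Q : Set G)) :
    Nat.card (Q ⊔ L : Subgroup G) * Nat.card (Q ⊓ L : Subgroup G) = Nat.card Q * Nat.card L := by
  have hn1 := Subgroup.normal_subgroupOf_of_le_normalizer h
  have hn2 := Subgroup.normal_subgroupOf_sup_of_le_normalizer h
  have h1 := Nat.card_congr (QuotientGroup.quotientInfEquivProdNormalizerQuotient L Q h).toEquiv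
  have h2 := (Q.subgroupOf L).card_mul_index
  have h3 := (Q.subgroupOf (L ⊔ Q)).card_mul_index
  rw [Subgroup.index_eq_card] at h2 h3
  rw [h1] at h2
  have h4 : Nat.card (Q.subgroupOf L) = Nat.card (Q ⊓ L : Subgroup G) := by
    rw [← inf_subgroupOf_right]
    exact Nat.card_congr (subgroupOfEquivOfLe inf_le_right).toEquiv
  have h5 : Nat.card (Q.subgroupOf (L ⊔ Q)) = Nat.card Q := Nat.card_congr (subgroupOfEquivOfLe le_sup_right).toEquiv
  rw [h4] at h2
  rw [h5] at h3
  rw [sup_comm Q L, ← h3, ← h2]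
  ring

/-- **uniqueness** -/
theorem unique [Finite G] (h256 : ¬ 256 ∣ Nat.card G) {L M E : Subgroup G} (hEL : (pCore 2 ↥L).map L.subtype = E)
    (hL : Nat.card L = 960) (hE : Nat.card E = 16) (hC : centralizer (E : Set G) ≤ E) (hM : IsMaximalTwoLocal M)
    (hLM : L ≤ M) (hML : M ≤ normalizer (L : Set G)) : maxTwoLocalsContaining L = {M} := by
  have h2p : Fact (Nat.Prime 2) := ⟨Nat.prime_two⟩
  have hE2 : IsPGroup 2 E := IsPGroup.of_card (n := 4) (by rw [hE]; norm_num)
  have hEne : E ≠ ⊥ := by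
    rintro rfl
    rw [card_bot] at hE
    norm_num at hE
  have hEleL : E ≤ L := hEL ▸ map_subtype_le _
  have hLE : L ≤ normalizer (E : Set G) := hEL ▸ le_normalizer_map_pCore 2 L
  have hNN : normalizer (L : Set G) ≤ normalizer (E : Set G) := by
    intro g hg
    have h0 : ∀ g ∈ normalizer (L : Set G), ∀ e ∈ E, g * e * g⁻¹ ∈ E := by
      intro g hg e he
      rw [← hEL] at he ⊢
      let f : MulAut ↥L := L.normalizerMonoidHom ⟨g, hg⟩
      have h5 : (pCore 2 ↥L).map f.toMonoidHom = pCore 2 ↥L := Cfsg.Agent.Lib.Cores.map_equiv_pCore f 2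
      obtain ⟨y, hy, rfl⟩ := he
      refine ⟨f y, ?_, rfl⟩
      rw [← h5]
      exact ⟨y, hy, rfl⟩
    rw [mem_normalizer_iff]
    intro e
    refine ⟨h0 g hg e, fun h => ?_⟩
    have h1 := h0 g⁻¹ (inv_mem hg) _ h
    have e1 : g⁻¹ * (g * e * g⁻¹) * g⁻¹⁻¹ = e := by group
    rwa [e1] at h1
  have hNE : normalizer (E : Set G) = M := hM.2 _ ⟨E, hE2, hEne, rfl⟩ (hML.trans hNN)
  -- an element of order 5
  obtain ⟨x, hx5⟩ : ∃ x : ↥L, orderOf x = 5 := by
    have : Fact (Nat.Prime 5) := ⟨by norm_num⟩
    exact exists_prime_orderOf_dvd_card' 5 (by rw [hL]; norm_num)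
  have hx : orderOf (x : G) = 5 := by rw [← hx5]; exact orderOf_coe x
  have hxC : (x : G) ∉ centralizer (E : Set G) := by
    intro h
    have h1 : orderOf (x : G) ∣ 16 := by
      rw [← hE, ← Subgroup.orderOf_mk (x : G) (hC h)]
      exact orderOf_dvd_natCard _
    rw [hx] at h1
    norm_num at h1
  have irr : ∀ D ≤ E, L ≤ normalizer (D : Set G) → D = ⊥ ∨ D = E := fun D hDE hLD =>
    irred hE hx (hLE x.2) hxC hDE (hLD x.2)
  apply le_antisymm
  · rintro X ⟨hX, hLX⟩
    have hXp := pCore_ne_bot_of_twoLocal hX.1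
    set Q : Subgroup G := (pCore 2 ↥X).map X.subtype with hQdef
    have hQ2 : IsPGroup 2 Q := map_pCore_isPGroup 2 X
    have hQne : Q ≠ ⊥ := map_pCore_ne_bot hXp
    have hXQ : X ≤ normalizer (Q : Set G) := le_normalizer_map_pCore 2 X
    have hXeq : normalizer (Q : Set G) = X := hX.2 _ ⟨Q, hQ2, hQne, rfl⟩ hXQ
    have hLQ : L ≤ normalizer (Q : Set G) := hLX.trans hXQ
    have hQL : Q ⊓ L ≤ E := by
      rw [← hEL]
      refine le_map_pCore inf_le_right (hQ2.to_le inf_le_left) ?_
      exact (le_inf hLQ le_normalizer).trans inf_normalizer_le_normalizer_inf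
    have hLQE : L ≤ normalizer ((Q ⊓ E : Subgroup G) : Set G) :=
      (le_inf hLQ hLE).trans inf_normalizer_le_normalizer_inf
    obtain ⟨k, hk⟩ := IsPGroup.iff_card.1 hQ2
    have hcard : Nat.card (Q ⊔ L : Subgroup G) * Nat.card (Q ⊓ L : Subgroup G) = 2 ^ k * 960 := by
      rw [← hk, ← hL]
      exact card_sup_mul hLQ
    have hdG : Nat.card (Q ⊔ L : Subgroup G) ∣ Nat.card G := card_subgroup_dvd_card _
    show X = M
    rcases irr _ (inf_le_right : Q ⊓ E ≤ E) hLQE with h | h
    · exfalso
      have h1 : Q ⊓ L = ⊥ := by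
        rw [eq_bot_iff, ← h]
        exact le_inf inf_le_left hQL
      rw [h1, card_bot, mul_one] at hcard
      rw [hcard] at hdG
      have hk1 : k ≤ 1 := by
        by_contra hk2
        apply h256
        refine Dvd.dvd.trans ?_ hdG
        have e1 : (256 : ℕ) = 2 ^ 2 * 64 := by norm_num
        have e2 : (960 : ℕ) = 64 * 15 := by norm_num
        rw [e1, e2, ← mul_assoc]
        exact Dvd.dvd.mul_right (Nat.mul_dvd_mul (pow_dvd_pow 2 (by omega)) dvd_rfl) 15
      have hk0 : k ≠ 0 := by
        rintro rfl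
        exact hQne (card_eq_one.1 hk)
      have hk2 : Nat.card Q = 2 := by
        rw [hk, show k = 1 by omega, pow_one]
      -- `L` centralises `Q`
      have hQC : Q ≤ centralizer (E : Set G) := by
        intro q hq
        rw [mem_centralizer_iff]
        intro e he
        by_cases hq1 : q = 1
        · rw [hq1, one_mul, mul_one]
        have h3 : e * q * e⁻¹ ∈ Q := (mem_normalizer_iff.1 (hLQ (hEleL he)) q).1 hq
        have h4 : e * q * e⁻¹ ≠ 1 := fun h5 => hq1 (by
          calc q = e⁻¹ * (e * q * e⁻¹) * e := by group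
            _ = 1 := by rw [h5]; group)
        have h6 : e * q * e⁻¹ = q := by
          by_contra h7
          have h8 : ({1, q, e * q * e⁻¹} : Set G) ⊆ (Q : Set G) := by
            rintro y (rfl | rfl | rfl)
            · exact one_mem _
            · exact hq
            · exact h3
          have h9 := Set.ncard_le_ncard h8 (Set.toFinite _)
          rw [Set.ncard_eq_three.2 ⟨1, q, e * q * e⁻¹, Ne.symm hq1, Ne.symm h4, Ne.symm h7, rfl⟩] at h9
          have h10 : (Q : Set G).ncard = 2 := hk2
          omega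
        calc e * q = e * q * e⁻¹ * e := by group
          _ = q * e := by rw [h6]
      apply hQne
      rw [eq_bot_iff, ← h]
      exact le_inf le_rfl (hQC.trans hC)
    · have hEQ : E ≤ Q := inf_eq_right.1 h
      have h1 : Q ⊓ L = E := le_antisymm hQL (le_inf hEQ hEleL)
      rw [h1, hE] at hcard
      have hcard' : Nat.card (Q ⊔ L : Subgroup G) = 2 ^ k * 60 := by omega
      rw [hcard'] at hdG
      have hk5 : k ≤ 5 := by
        by_contra hk2
        apply h256
        refine Dvd.dvd.trans ?_ hdG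
        have e1 : (256 : ℕ) = 2 ^ 6 * 4 := by norm_num
        have e2 : (60 : ℕ) = 4 * 15 := by norm_num
        rw [e1, e2, ← mul_assoc]
        exact Dvd.dvd.mul_right (Nat.mul_dvd_mul (pow_dvd_pow 2 (by omega)) dvd_rfl) 15
      have hk4 : 4 ≤ k := by
        by_contra hk2
        have h3 := Nat.le_of_dvd Nat.card_pos (card_dvd_of_le hEQ)
        rw [hE, hk] at h3
        have h4 : 2 ^ k ≤ 2 ^ 3 := Nat.pow_le_pow_right (by norm_num) (by omega)
        omega
      rcases Nat.lt_or_ge k 5 with h5 | h5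
      · have h6 : E = Q := eq_of_le_of_card_ge hEQ (by rw [hk, hE, show k = 4 by omega]; norm_num)
        rw [← hXeq, ← h6, hNE]
      · exfalso
        have hk' : Nat.card Q = 32 := by rw [hk, show k = 5 by omega]; norm_num
        -- `Q` normalises `E`
        have hind : (E.subgroupOf Q).index = 2 := by
          have h7 := (E.subgroupOf Q).card_mul_index
          rw [Nat.card_congr (subgroupOfEquivOfLe hEQ).toEquiv, hE, hk'] at h7
          omega
        have hnor : (E.subgroupOf Q).Normal := normal_of_index_eq_two hind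
        have hQE : Q ≤ normalizer (E : Set G) := (normal_subgroupOf_iff_le_normalizer hEQ).1 hnor
        -- `E ∩ Z(Q)`
        have hnil : Group.IsNilpotent Q := hQ2.isNilpotent
        have hne : E.subgroupOf Q ≠ ⊥ := by
          intro h8
          rw [subgroupOf_eq_bot] at h8
          exact hEne (h8.eq_bot_of_le hEQ)
        obtain ⟨⟨y, hyE, hyc⟩, hy1⟩ := (Subgroup.ne_bot_iff_exists_ne_one).1
          (Lib.NormalAbelian.normal_inf_center_ne_bot _ hne)
        have hLC : L ≤ normalizer ((centralizer (Q : Set G) : Subgroup G) : Set G) :=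
          hLQ.trans (normalizer_le_normalizer_centralizer _)
        rcases irr (E ⊓ centralizer (Q : Set G)) inf_le_left
          ((le_inf hLE hLC).trans inf_normalizer_le_normalizer_inf) with h9 | h9
        · apply hy1
          have h10 : (y : G) ∈ E ⊓ centralizer (Q : Set G) := by
            refine mem_inf.2 ⟨mem_subgroupOf.1 hyE, ?_⟩
            rw [mem_centralizer_iff]
            intro q hq
            exact congrArg Subtype.val (mem_center_iff.1 hyc ⟨q, hq⟩)
          rw [h9, mem_bot] at h10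
          exact Subtype.ext (Subtype.ext h10)
        · have h10 : Q ≤ E := by
            refine le_trans ?_ hC
            intro q hq
            rw [mem_centralizer_iff]
            intro e he
            rw [← h9] at he
            exact ((mem_centralizer_iff.1 he.2) q hq).symm
          have h11 := Nat.le_of_dvd Nat.card_pos (card_dvd_of_le h10)
          rw [hE, hk'] at h11
          norm_num at h11
  · rintro _ rfl
    exact ⟨hM, hLM⟩

end Cfsg.Agent.H5.FiveMod
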