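import Cfsg.Agent.H5.Top
import Cfsg.Agent.H4.Small

/-!
# `ℒ(G, T)` for groups of even characteristic with `|G|₂ ≤ 64` (helper5)

`row64`: `L ∈ ℒ(G, T)`, `¬ 128 ∣ |G|`: `T ≤ L`, and `L/O₂(L) ≅ L₃(2)` with `|O₂(L)| = 8` or `L/O₂(L) ≅ A₅` with
`|O₂(L)| = 16`; `row64_max`: `L` is a maximal member of `ℒ(G, T)` if `5 ∤ |G|` or `7 ∤ |G|`.
-/

set_option autoImplicit false

namespace Cfsg.Agent.H5.Row64

open Subgroup Cfsg.Agent.QTUniq.Local
open scoped commutatorElement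

universe u

variable {G : Type u} [Group G]

/-- `C_L(O₂(L)) ≤ O₂(L)` for `L ∈ ℒ(G, T)` -/
theorem centralizer_le [Finite G] (hE : IsOfEvenCharacteristic G) (T : Sylow 2 G) {L : Subgroup G}
    (hL : L ∈ calL (T : Subgroup G)) : centralizer (pCore 2 ↥L : Set ↥L) ≤ pCore 2 ↥L := by
  have : Fact (Nat.Prime 2) := ⟨Nat.prime_two⟩
  have h1 := charTwo_of_over hE T le_sup_right (H4.Lf.oTwo_ne hL)
  have h2 := genFitting_of_subnormal h1 (H4.Lf.subnormal hL)
  have h3 : L ∈ calHe G := by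
    have e := Subgroup.subgroupOfEquivOfLe (le_sup_left : L ≤ L ⊔ (T : Subgroup G))
    have h4 := Cfsg.Agent.Lib.GenFitting.map_genFitting e
    have h5 := Cfsg.Agent.Lib.Cores.map_equiv_pCore e 2
    show generalizedFittingSubgroup ↥L = pCore 2 ↥L
    rw [h2] at h4
    exact h4.symm.trans h5
  exact SignalizersComponents.CharP.centralizer_pCore_le_of_genFitting_eq h3

/-- the group `↥L` is perfect -/
theorem perfect_top {T L : Subgroup G} (hL : L ∈ calL T) : ⁅(⊤ : Subgroup ↥L), (⊤ : Subgroup ↥L)⁆ = ⊤ := by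
  rw [← (Subgroup.map_injective L.subtype_injective).eq_iff, Subgroup.map_commutator,
      ← MonoidHom.range_eq_map, Subgroup.range_subtype, H4.Lf.perfect hL]

theorem nontrivial {T L : Subgroup G} (hL : L ∈ calL T) : Nontrivial ↥L :=
  (Subgroup.nontrivial_iff_ne_bot L).2 (H4.Lf.ne_bot hL)

/-- `T ≤ L` if `|T|` divides `|L|` -/
theorem le_of_dvd [Finite G] (T : Sylow 2 G) {L : Subgroup G} (hL : L ∈ calL (T : Subgroup G))
    (h : Nat.card (T : Subgroup G) ∣ Nat.card ↥L) : (T : Subgroup G) ≤ L := by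
  have h2 : Fact (Nat.Prime 2) := ⟨Nat.prime_two⟩
  have h3 := H4.Small.not_two_dvd_index T hL
  obtain ⟨k, hk⟩ := IsPGroup.iff_card.1 T.isPGroup'
  have h4 := (((T : Subgroup G).subgroupOf L)).card_mul_index
  have h5 : Nat.Coprime (Nat.card (T : Subgroup G)) ((T : Subgroup G).subgroupOf L).index := by
    rw [hk]
    exact Nat.Coprime.pow_left _ ((Nat.Prime.coprime_iff_not_dvd Nat.prime_two).2 h3)
  rw [← h4] at h
  have h6 := h5.dvd_of_dvd_mul_right h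
  have h7 : Nat.card ↥((T : Subgroup G).subgroupOf L) = Nat.card ↥((T : Subgroup G) ⊓ L : Subgroup G) := by
    rw [← Subgroup.inf_subgroupOf_right]
    exact Nat.card_congr (Subgroup.subgroupOfEquivOfLe inf_le_right).toEquiv
  rw [h7] at h6
  have h8 : Nat.card ↥((T : Subgroup G) ⊓ L : Subgroup G) = Nat.card (T : Subgroup G) :=
    Nat.dvd_antisymm (Subgroup.card_dvd_of_le inf_le_left) h6
  have h9 := Subgroup.eq_of_le_of_card_ge (inf_le_left : (T : Subgroup G) ⊓ L ≤ T) h8.ge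
  exact inf_eq_left.1 h9

/-- **`ℒ(G, T)`, `|G|₂ ≤ 64`.** -/
theorem row64 [Finite G] (hFT : Top.FT.{u}) (hE : IsOfEvenCharacteristic G) (h128 : ¬ 128 ∣ Nat.card G)
    (T : Sylow 2 G) {L : Subgroup G} (hL : L ∈ calL (T : Subgroup G)) :
    (T : Subgroup G) ≤ L ∧
    ((Nat.card (pCore 2 ↥L) = 8 ∧ Nat.card (↥L ⧸ pCore 2 ↥L) = 168 ∧
      Nonempty (↥L ⧸ pCore 2 ↥L ≃* Matrix.ProjectiveSpecialLinearGroup (Fin 3) (ZMod 2))) ∨
    (Nat.card (pCore 2 ↥L) = 16 ∧ Nat.card (↥L ⧸ pCore 2 ↥L) = 60 ∧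
      Nonempty (↥L ⧸ pCore 2 ↥L ≃* alternatingGroup (Fin 5)))) := by
  have h2 : Fact (Nat.Prime 2) := ⟨Nat.prime_two⟩
  have hnt := nontrivial hL
  have hLG : Nat.card ↥L ∣ Nat.card G := Subgroup.card_subgroup_dvd_card L
  have key := Top.top64 hFT (perfect_top hL) (centralizer_le hE T hL) (fun h => h128 (h.trans hLG))
  refine ⟨?_, key⟩
  have h64 : 64 ∣ Nat.card ↥L := by
    rw [Top.card_eq_mul]
    rcases key with ⟨h1, h3, -⟩ | ⟨h1, h3, -⟩ <;> rw [h1, h3] <;> norm_num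
  apply le_of_dvd T hL
  obtain ⟨k, hk⟩ := IsPGroup.iff_card.1 T.isPGroup'
  have hk6 : k ≤ 6 := by
    by_contra hk7
    apply h128
    have h3 : 2 ^ 7 ∣ Nat.card (T : Subgroup G) := by
      rw [hk]; exact pow_dvd_pow 2 (by omega)
    exact (by norm_num : 128 ∣ 2 ^ 7).trans (h3.trans (Subgroup.card_subgroup_dvd_card _))
  rw [hk]
  exact (pow_dvd_pow 2 hk6).trans (by simpa using h64)

theorem sup_eq {T L : Subgroup G} (h : T ≤ L) : L ⊔ T = L := sup_eq_left.2 h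

theorem card_eq [Finite G] (hFT : Top.FT.{u}) (hE : IsOfEvenCharacteristic G) (h128 : ¬ 128 ∣ Nat.card G)
    (T : Sylow 2 G) {L : Subgroup G} (hL : L ∈ calL (T : Subgroup G)) :
    Nat.card ↥L = 1344 ∨ Nat.card ↥L = 960 := by
  rcases (row64 hFT hE h128 T hL).2 with ⟨h1, h3, -⟩ | ⟨h1, h3, -⟩
  · left; rw [Top.card_eq_mul, h1, h3]
  · right; rw [Top.card_eq_mul, h1, h3]

/-- **`L` is a maximal member.** -/
theorem row64_max [Finite G] (hFT : Top.FT.{u}) (hE : IsOfEvenCharacteristic G) (h128 : ¬ 128 ∣ Nat.card G)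
    (T : Sylow 2 G) {L : Subgroup G} (hL : L ∈ calL (T : Subgroup G)) : L ∈ calLMax (T : Subgroup G) := by
  refine ⟨hL, fun K hK hLK => ?_⟩
  have h1 := card_eq hFT hE h128 T hL
  have h2 := card_eq hFT hE h128 T hK
  have h3 := Subgroup.card_dvd_of_le hLK
  symm
  apply Subgroup.eq_of_le_of_card_ge hLK
  rcases h1 with h1 | h1 <;> rcases h2 with h2 | h2 <;> rw [h1, h2] at h3 <;> rw [h1, h2] <;> norm_num at h3

end Cfsg.Agent.H5.Row64
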